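import Mathlib.AlgebraicGeometry.OrderOfVanishing
import Mathlib.AlgebraicGeometry.FunctionField
import Mathlib.AlgebraicGeometry.Morphisms.OpenImmersion

/-! # Orders of vanishing: transport along open immersions, elementary values -/

set_option autoImplicit false
universe u

open CategoryTheory AlgebraicGeometry TopologicalSpace

namespace Groth.Agent.WDiv3

theorem ringOrd_congr {R R' : Type u} [CommRing R] [CommRing R'] (e : R ≃+* R') (x : R) :
    Ring.ord R' (e x) = Ring.ord R x := by
  let q : (R ⧸ Ideal.span {x}) ≃+* (R' ⧸ Ideal.span {e x}) :=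
    Ideal.quotientEquiv (Ideal.span {x}) (Ideal.span {e x}) e (by rw [Ideal.map_span, Set.image_singleton]; rfl)
  letI : Algebra R R' := e.toRingHom.toAlgebra
  let q' : (R ⧸ Ideal.span {x}) ≃ₗ[R] (R' ⧸ Ideal.span {e x}) :=
    { q.toAddEquiv with
      map_smul' := fun r m => by
        obtain ⟨m, rfl⟩ := Ideal.Quotient.mk_surjective m
        show q (Ideal.Quotient.mk _ (r * m)) = _
        simp [q, Algebra.smul_def]
        rfl }
  rw [Ring.ord, Ring.ord, q'.length_eq]
  exact (Module.length_eq_of_surjective (R := R') (S := R) (M := R' ⧸ Ideal.span {e x}) e.surjective).symm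

theorem ringOrdFrac_congr {R R' K K' : Type u} [CommRing R] [IsDomain R] [IsNoetherianRing R]
    [Ring.KrullDimLE 1 R] [CommRing R'] [IsDomain R'] [IsNoetherianRing R'] [Ring.KrullDimLE 1 R']
    [Field K] [Algebra R K] [IsFractionRing R K] [Field K'] [Algebra R' K'] [IsFractionRing R' K']
    (e : R ≃+* R') (e' : K ≃+* K') (hc : ∀ r, e' (algebraMap R K r) = algebraMap R' K' (e r)) (x : K) :
    Ring.ordFrac R' (e' x) = Ring.ordFrac R x := by
  obtain ⟨a, b, hb, rfl⟩ := IsFractionRing.div_surjective (A := R) x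
  rcases eq_or_ne a 0 with rfl | ha
  · simp
  have hb0 : b ≠ 0 := nonZeroDivisors.ne_zero hb
  rw [map_div₀ e', hc, hc, map_div₀, map_div₀, Ring.ordFrac_eq_ord R ha, Ring.ordFrac_eq_ord R hb0,
    Ring.ordFrac_eq_ord R' ((map_ne_zero_iff e e.injective).2 ha),
    Ring.ordFrac_eq_ord R' ((map_ne_zero_iff e e.injective).2 hb0)]
  congr 1
  all_goals
    rw [Ring.ordMonoidWithZeroHom_eq_ord (mem_nonZeroDivisors_of_ne_zero (by simpa)),
      Ring.ordMonoidWithZeroHom_eq_ord (mem_nonZeroDivisors_of_ne_zero (by simpa)), ringOrd_congr]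

variable {X Y : Scheme.{u}} [IsIntegral X] [IsIntegral Y]

/-- Restriction of rational functions along an open immersion. -/
noncomputable def ffIso (j : Y ⟶ X) [IsOpenImmersion j] : X.functionField ≅ Y.functionField :=
  X.presheaf.stalkCongr (Inseparable.of_eq (genericPoint_eq_of_isOpenImmersion j).symm) ≪≫
    asIso (j.stalkMap (genericPoint Y))

theorem ffIso_algebraMap (j : Y ⟶ X) [IsOpenImmersion j] (y : Y) (r : X.presheaf.stalk (j y)) :
    (ffIso j).hom (algebraMap _ X.functionField r) = algebraMap _ Y.functionField (j.stalkMap y r) := by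
  have h : X.presheaf.stalkSpecializes ((genericPoint_spec X).specializes (trivial : (j y) ∈ ⊤)) ≫ (ffIso j).hom =
      j.stalkMap y ≫ Y.presheaf.stalkSpecializes ((genericPoint_spec Y).specializes (trivial : y ∈ ⊤)) := by
    simp [ffIso, ← Scheme.Hom.stalkSpecializes_stalkMap]
  exact ConcreteCategory.congr_hom h r

theorem coheight_eq (j : Y ⟶ X) [IsOpenImmersion j] (y : Y) : Order.coheight (j y) = Order.coheight y := by
  exact coheight_eq_of_isOpenImmersion ..

theorem ord_ffIso [IsLocallyNoetherian X] [IsLocallyNoetherian Y] (j : Y ⟶ X) [IsOpenImmersion j] (y : Y)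
    (f : X.functionField) : Scheme.ord ((ffIso j).hom f) y = Scheme.ord f (j y) := by
  by_cases hy : Order.coheight y = 1
  · have hx : Order.coheight (j y) = 1 := (coheight_eq j y).trans hy
    have : Ring.KrullDimLE 1 (Y.presheaf.stalk y) := krullDimLE_of_coheight_le hy.le
    have : Ring.KrullDimLE 1 (X.presheaf.stalk (j y)) := krullDimLE_of_coheight_le hx.le
    rw [Scheme.ord_eq_ordHom_of_coheight_eq_one hy, Scheme.ord_eq_ordHom_of_coheight_eq_one hx]
    have h : Ring.ordFrac (Y.presheaf.stalk y) ((ffIso j).hom f) = Ring.ordFrac (X.presheaf.stalk (j y)) f :=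
      ringOrdFrac_congr (asIso (j.stalkMap y)).commRingCatIsoToRingEquiv (ffIso j).commRingCatIsoToRingEquiv
        (ffIso_algebraMap j y) f
    rw [show Y.ordHom y hy ((ffIso j).hom f) = X.ordHom (j y) hx f from h]
  · rw [Scheme.ord_eq_zero_of_coheight_neq_one hy,
      Scheme.ord_eq_zero_of_coheight_neq_one (fun h => hy ((coheight_eq j y).symm.trans h))]

theorem ord_one [IsLocallyNoetherian X] (x : X) : Scheme.ord (1 : X.functionField) x = 0 := by
  have h := Scheme.ord_mul (x := x) (one_ne_zero (α := X.functionField)) one_ne_zero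
  rw [mul_one] at h
  omega

theorem ord_zpow [IsLocallyNoetherian X] {f : X.functionField} (hf : f ≠ 0) (x : X) (n : ℤ) :
    Scheme.ord (f ^ n) x = n * Scheme.ord f x := by
  induction n with
  | zero => simp [ord_one]
  | succ n ih => rw [zpow_add_one₀ hf, Scheme.ord_mul (zpow_ne_zero _ hf) hf, ih]; ring
  | pred n ih =>
    have h := Scheme.ord_mul (x := x) (zpow_ne_zero (-(n : ℤ) - 1) hf) hf
    rw [← zpow_add_one₀ hf, sub_add_cancel, ih] at h
    linarith

theorem ord_prod [IsLocallyNoetherian X] {ι : Type*} (s : Finset ι) (f : ι → X.functionField)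
    (hf : ∀ i ∈ s, f i ≠ 0) (x : X) : Scheme.ord (∏ i ∈ s, f i) x = ∑ i ∈ s, Scheme.ord (f i) x := by
  classical
  induction s using Finset.induction_on with
  | empty => simp [ord_one]
  | insert a s ha ih =>
    rw [Finset.prod_insert ha, Finset.sum_insert ha, Scheme.ord_mul (hf a (Finset.mem_insert_self a s))
      (Finset.prod_ne_zero_iff.2 fun i hi => hf i (Finset.mem_insert_of_mem hi)),
      ih fun i hi => hf i (Finset.mem_insert_of_mem hi)]

end Groth.Agent.WDiv3
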